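import Groth.Agent.QCohLib.Modules
import Groth.Agent.ProjFormLib.Frame
import Mathlib.Topology.Sheaves.SheafCondition.Sites

/-!
# Morphisms of modules given on a basis
-/

set_option autoImplicit false
universe u

open CategoryTheory CategoryTheory.Limits AlgebraicGeometry TopologicalSpace Opposite

noncomputable section

namespace EtTwoLib

variable {X : Scheme.{u}} {E P : X.Modules}

/-- A natural family of linear maps on a basis is a morphism of modules. -/
theorem exists_hom_of_basis {ι : Type u} (B : ι → X.Opens) (hB : Opens.IsBasis (Set.range B))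
    (Φ : ∀ i, Γ(E, B i) →+ Γ(P, B i))
    (hres : ∀ (i j : ι) (h : B j ≤ B i) (m : Γ(E, B i)),
      P.presheaf.map (homOfLE h).op (Φ i m) = Φ j (E.presheaf.map (homOfLE h).op m))
    (hsmul : ∀ (i : ι) (r : Γ(X, B i)) (m : Γ(E, B i)), Φ i (r • m) = r • Φ i m) :
    ∃ φ : E ⟶ P, ∀ i m, φ.app (B i) m = Φ i m := by
  let α : (inducedFunctor B).op ⋙ E.presheaf ⟶ (inducedFunctor B).op ⋙ ((QCohLib.toAbF X).obj P).1 :=
    { app := fun i => AddCommGrpCat.ofHom (Φ i.unop)
      naturality := fun i j k => by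
        ext m
        exact (hres i.unop j.unop k.unop.hom.le m).symm }
  let c := TopCat.Sheaf.restrictHomEquivHom E.presheaf
    ((QCohLib.toAbF X).obj P : TopCat.Sheaf AddCommGrpCat.{u} X.toTopCat) hB α
  have hc : ∀ i m, c.app (op (B i)) m = Φ i m := fun i m =>
    ConcreteCategory.congr_hom (TopCat.Sheaf.extend_hom_app E.presheaf
      ((QCohLib.toAbF X).obj P : TopCat.Sheaf AddCommGrpCat.{u} X.toTopCat) hB α i) m
  have hnat : ∀ {U V : X.Opens} (h : V ≤ U) (m : Γ(E, U)),
      c.app (op V) (E.presheaf.map (homOfLE h).op m) = P.presheaf.map (homOfLE h).op (c.app (op U) m) :=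
    fun h m => ConcreteCategory.congr_hom (c.naturality (homOfLE h).op) m
  have hlin : ∀ (U : X.Opens) (r : Γ(X, U)) (m : Γ(E, U)), c.app (op U) (r • m) = r • (show Γ(P, U) from c.app (op U) m) := by
    intro U r m
    refine ProjFormLib.section_ext _ _ fun y hy => ?_
    obtain ⟨V, ⟨i, rfl⟩, hyV, hVU⟩ := Opens.isBasis_iff_nbhd.mp hB hy
    rw [← ProjFormLib.ger_res P hVU y hyV, ← ProjFormLib.ger_res P hVU y hyV (r • _)]
    congr 1
    refine (hnat hVU (r • m)).symm.trans ?_
    refine (congrArg (fun t => c.app (op (B i)) t) (Scheme.Modules.map_smul E (homOfLE hVU) r m)).trans ?_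
    refine (hc i _).trans ((hsmul i _ _).trans ?_)
    refine Eq.trans ?_ (Scheme.Modules.map_smul P (homOfLE hVU) r _).symm
    exact congrArg (_ • ·) ((hc i _).symm.trans (hnat hVU m))
  exact ⟨⟨PresheafOfModules.homMk c fun U r m => hlin U.unop r m⟩, hc⟩

/-- Morphisms agreeing on a basis are equal. -/
theorem hom_ext_basis {ι : Type u} (B : ι → X.Opens) (hB : Opens.IsBasis (Set.range B)) {f g : E ⟶ P}
    (h : ∀ i m, f.app (B i) m = g.app (B i) m) : f = g := by
  refine Scheme.Modules.hom_ext _ _ fun U => ConcreteCategory.hom_ext _ _ fun m => ?_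
  refine ProjFormLib.section_ext _ _ fun y hy => ?_
  obtain ⟨V, ⟨i, rfl⟩, hyV, hVU⟩ := Opens.isBasis_iff_nbhd.mp hB hy
  rw [← ProjFormLib.ger_res P hVU y hyV, ← ProjFormLib.ger_res P hVU y hyV (g.app U m)]
  congr 1
  exact (QCohLib.app_map f (homOfLE hVU) m).symm.trans ((h i _).trans (QCohLib.app_map g (homOfLE hVU) m))

end EtTwoLib

end
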