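import Groth.Agent.EtTwoLib.BasisHom
import Groth.Agent.DetDegLib.Main
import Groth.Agent.QCohLib.Push
import Groth.Prelude.Def_ClSub2
import Mathlib.LinearAlgebra.Trace

/-!
# The trace of a finite locally free morphism
-/

set_option autoImplicit false
set_option linter.style.haveILetI false
universe u

open CategoryTheory CategoryTheory.Limits AlgebraicGeometry TopologicalSpace Opposite

noncomputable section

namespace EtTwoLib

variable {X Y : Scheme.{u}} (f : Y ⟶ X)

/-- The direct image of the structure sheaf. -/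
abbrev dirO : X.Modules := (Scheme.Modules.pushforward f).obj (Coh.structureModule Y)

/-- The preimage algebra. -/
@[reducible] def algV (V : X.Opens) : Algebra Γ(X, V) Γ(Y, f ⁻¹ᵁ V) := (f.app V).hom.toAlgebra

/-- Multiplication by a section. -/
def mulBy (V : X.Opens) (s : Γ(Y, f ⁻¹ᵁ V)) : Γ(dirO f, V) →ₗ[Γ(X, V)] Γ(dirO f, V) where
  toFun t := (show Γ(dirO f, V) from (s * (show Γ(Y, f ⁻¹ᵁ V) from t) : Γ(Y, f ⁻¹ᵁ V)))
  map_add' a b := mul_add s _ _
  map_smul' r a := mul_left_comm s (f.app V r) (show Γ(Y, f ⁻¹ᵁ V) from a)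

/-- The trace on sections. -/
def trV (V : X.Opens) : Γ(dirO f, V) →+ Γ(Coh.structureModule X, V) where
  toFun s := (show Γ(Coh.structureModule X, V) from
    (LinearMap.trace Γ(X, V) Γ(dirO f, V) (mulBy f V s) : Γ(X, V)))
  map_zero' := (congrArg (LinearMap.trace Γ(X, V) Γ(dirO f, V))
    (show mulBy f V (0 : Γ(Y, f ⁻¹ᵁ V)) = 0 from LinearMap.ext fun t => zero_mul (show Γ(Y, f ⁻¹ᵁ V) from t))).trans (map_zero _)
  map_add' a b := (congrArg (LinearMap.trace Γ(X, V) Γ(dirO f, V))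
    (show mulBy f V ((show Γ(Y, f ⁻¹ᵁ V) from a) + (show Γ(Y, f ⁻¹ᵁ V) from b)) =
      mulBy f V a + mulBy f V b from LinearMap.ext fun t => add_mul _ _ (show Γ(Y, f ⁻¹ᵁ V) from t))).trans (map_add _ _ _)

/-- Affine opens with a frame. -/
abbrev Good (n : ℕ) : Type u :=
  {V : X.affineOpens // ∃ b : Fin n → Γ(dirO f, V.1), ∀ (y : X) (hy : y ∈ V.1), DetDegLib.FrameAt (dirO f) b hy}

variable {f}

theorem isBasis_good [IsLocallyNoetherian X] {n : ℕ} (h : FlatMod.IsFinLocFreeOfRank n (dirO f)) :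
    Opens.IsBasis (Set.range fun V : Good f n => V.1.1) := by
  haveI : Coh.IsQCoh (dirO f) := (CurvLib.isCoh_of_locFree h).1
  rw [Opens.isBasis_iff_nbhd]
  intro U x hx
  obtain ⟨V, hV, hxV, hVU⟩ := exists_isAffineOpen_mem_and_subset hx
  obtain ⟨b, hb⟩ := DetDegLib.exists_frame_at h hV hxV
  obtain ⟨g, hxg, hg⟩ := DetDegLib.exists_frame_basicOpen h hV b hxV hb
  exact ⟨X.basicOpen g, ⟨⟨⟨X.basicOpen g, hV.basicOpen g⟩, _,
    fun y hy => (DetDegLib.frameAt_res (X.basicOpen_le g) b hy).mpr (hg y hy)⟩, rfl⟩, hxg,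
    (X.basicOpen_le g).trans hVU⟩

/-- The basis of sections given by a frame. -/
def frameBasis {n : ℕ} [Coh.IsQCoh (dirO f)] {V : X.Opens} (hV : IsAffineOpen V) (b : Fin n → Γ(dirO f, V))
    (hb : ∀ (y : X) (hy : y ∈ V), DetDegLib.FrameAt (dirO f) b hy) : Module.Basis (Fin n) Γ(X, V) Γ(dirO f, V) :=
  Module.Basis.ofEquivFun (LinearEquiv.ofBijective (Fintype.linearCombination Γ(X, V) (M := Γ(dirO f, V)) b)
    (DetDegLib.frame_bijective hV b hb)).symm

theorem frameBasis_apply {n : ℕ} [Coh.IsQCoh (dirO f)] {V : X.Opens} (hV : IsAffineOpen V) (b : Fin n → Γ(dirO f, V))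
    (hb : ∀ (y : X) (hy : y ∈ V), DetDegLib.FrameAt (dirO f) b hy) (i : Fin n) : frameBasis hV b hb i = b i := by
  classical
  simp only [frameBasis, Module.Basis.coe_ofEquivFun, LinearEquiv.symm_symm, LinearEquiv.ofBijective_apply]
  erw [Fintype.linearCombination_apply_single, one_smul]

theorem trV_res {n : ℕ} [Coh.IsQCoh (dirO f)] (i j : Good f n) (h : j.1.1 ≤ i.1.1) (m : Γ(dirO f, i.1.1)) :
    (Coh.structureModule X).presheaf.map (homOfLE h).op (trV f i.1.1 m) =
      trV f j.1.1 ((dirO f).presheaf.map (homOfLE h).op m) := by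
  obtain ⟨b, hb⟩ := i.2
  let res := (dirO f).presheaf.map (homOfLE h).op
  let b' : Fin n → Γ(dirO f, j.1.1) := fun l => res (b l)
  have hb' : ∀ (y : X) (hy : y ∈ j.1.1), DetDegLib.FrameAt (dirO f) b' hy := fun y hy =>
    (DetDegLib.frameAt_res h b hy).mpr (hb y (h hy))
  let B := frameBasis i.1.2 b hb
  let B' := frameBasis j.1.2 b' hb'
  change X.presheaf.map (homOfLE h).op (LinearMap.trace Γ(X, i.1.1) Γ(dirO f, i.1.1) (mulBy f i.1.1 m)) =
    LinearMap.trace Γ(X, j.1.1) Γ(dirO f, j.1.1) (mulBy f j.1.1 (res m))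
  rw [LinearMap.trace_eq_matrix_trace _ B, LinearMap.trace_eq_matrix_trace _ B']
  simp only [Matrix.trace, Matrix.diag, map_sum, LinearMap.toMatrix_apply]
  refine Finset.sum_congr rfl fun l _ => ?_
  have e : mulBy f j.1.1 (res m) (B' l) = res (mulBy f i.1.1 m (B l)) := by
    rw [show B' l = res (B l) by rw [frameBasis_apply, frameBasis_apply]]
    exact (map_mul (Y.presheaf.map (homOfLE (f.preimage_mono h)).op).hom (show Γ(Y, f ⁻¹ᵁ i.1.1) from m)
      (show Γ(Y, f ⁻¹ᵁ i.1.1) from B l)).symm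
  rw [e]
  conv_rhs => rw [← B.sum_repr (mulBy f i.1.1 m (B l)), map_sum]
  have e2 : ∀ t, res (B.repr (mulBy f i.1.1 m (B l)) t • B t) =
      X.presheaf.map (homOfLE h).op (B.repr (mulBy f i.1.1 m (B l)) t) • B' t := fun t => by
    rw [show B' t = res (B t) by rw [frameBasis_apply, frameBasis_apply]]
    exact Scheme.Modules.map_smul (dirO f) (homOfLE h) _ _
  rw [Finset.sum_congr rfl fun t _ => e2 t, B'.repr_sum_self]

theorem trV_smul (V : X.Opens) (r : Γ(X, V)) (m : Γ(dirO f, V)) : trV f V (r • m) = r • trV f V m := by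
  change LinearMap.trace Γ(X, V) Γ(dirO f, V) (mulBy f V (f.app V r * (show Γ(Y, f ⁻¹ᵁ V) from m))) =
    r * LinearMap.trace Γ(X, V) Γ(dirO f, V) (mulBy f V m)
  rw [show mulBy f V (f.app V r * (show Γ(Y, f ⁻¹ᵁ V) from m)) = r • mulBy f V m from
    LinearMap.ext fun t => mul_assoc _ _ (show Γ(Y, f ⁻¹ᵁ V) from t), map_smul, smul_eq_mul]

/-- The trace composed with the unit is multiplication by the degree. -/
theorem exists_trace [IsLocallyNoetherian X] {n : ℕ} (h : FlatMod.IsFinLocFreeOfRank n (dirO f)) :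
    ∃ τ : dirO f ⟶ Coh.structureModule X, ClSub.unitToPush f ≫ τ = (n : ℤ) • 𝟙 (Coh.structureModule X) := by
  haveI : Coh.IsQCoh (dirO f) := (CurvLib.isCoh_of_locFree h).1
  have hB := isBasis_good (f := f) h
  obtain ⟨τ, hτ⟩ := exists_hom_of_basis (fun V : Good f n => V.1.1) hB (fun i => trV f i.1.1)
    (fun i j hij m => trV_res i j hij m) (fun i r m => trV_smul _ r m)
  refine ⟨τ, hom_ext_basis (fun V : Good f n => V.1.1) hB fun i r => ?_⟩
  refine (hτ i _).trans ?_
  obtain ⟨b, hb⟩ := i.2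
  change LinearMap.trace Γ(X, i.1.1) Γ(dirO f, i.1.1) (mulBy f i.1.1 (f.app i.1.1 r)) = _
  haveI := Module.Free.of_basis (frameBasis i.1.2 b hb)
  haveI := Module.Finite.of_basis (frameBasis i.1.2 b hb)
  let r' : Γ(X, i.1.1) := r
  rw [show mulBy f i.1.1 (f.app i.1.1 r') = r' • LinearMap.id from LinearMap.ext fun t => rfl,
    map_smul, LinearMap.trace_id]
  rcases subsingleton_or_nontrivial Γ(X, i.1.1) with hs | hs
  · exact hs.elim _ _
  rw [Module.finrank_eq_card_basis (frameBasis i.1.2 b hb), Fintype.card_fin, smul_eq_mul, mul_comm,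
    ← nsmul_eq_mul, ← natCast_zsmul]
  exact ((AddMonoidHom.mk' (fun φ : Coh.structureModule X ⟶ Coh.structureModule X => φ.app i.1.1 r)
    (fun a c => rfl)).map_zsmul (n : ℤ) (𝟙 _)).symm

end EtTwoLib

end
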