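import Groth.Agent.EtTwoLib.Trace
import Groth.Agent.CurvLib.Euler
import Groth.Agent.RRVanLib.Main
import Groth.Agent.RRVanLib.GG
import Groth.Agent.AtlasCohLib.FiniteCoh
import Groth.Prelude.Def_Frob
import Mathlib.FieldTheory.IsPerfectClosure

/-!
# Frobenius on cohomology through a split cover
-/

set_option autoImplicit false
set_option linter.style.haveILetI false
set_option maxHeartbeats 1000000
universe u

open CategoryTheory CategoryTheory.Limits AlgebraicGeometry TopologicalSpace Opposite

noncomputable section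

namespace EtTwoLib

variable (p : ℕ) [Fact p.Prime]

theorem isAffineHom_frob (X : Scheme.{u}) [FrobSch.IsCharP X p] : IsAffineHom (FrobSch.frob X p) :=
  ⟨fun U hU => by simpa using hU⟩

theorem mono_unit_frob (X : Scheme.{u}) [FrobSch.IsCharP X p] [IsReduced X] :
    Mono (ClSub.unitToPush (FrobSch.frob X p)) :=
  Preadditive.mono_of_cancel_zero _ fun {G} g hg => Scheme.Modules.hom_ext _ _ fun U =>
    ConcreteCategory.hom_ext _ _ fun x => by
      have h := congrArg (fun φ => φ.app U x) hg
      change (show Γ(X, U) from g.app U x) ^ p = 0 at h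
      exact pow_eq_zero_iff (Fact.out : p.Prime).ne_zero |>.mp h

theorem isQCoh_push_frob (X : Scheme.{u}) [FrobSch.IsCharP X p] :
    Coh.IsQCoh ((Scheme.Modules.pushforward (FrobSch.frob X p)).obj (Coh.structureModule X)) := by
  haveI := isAffineHom_frob p X
  haveI := QCohLib.isQCoh_unit (X := X)
  exact QCohLib.isQCoh_pushforward _ _

/-- The `p`-th power map on the structure sheaf, as a map of abelian sheaves. -/
def pmap (X : Scheme.{u}) [FrobSch.IsCharP X p] :
    (QCohLib.toAbF X).obj (Coh.structureModule X) ⟶ (QCohLib.toAbF X).obj (Coh.structureModule X) :=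
  show (QCohLib.toAbF X).obj (Coh.structureModule X) ⟶
      (QCohLib.toAbF X).obj ((Scheme.Modules.pushforward (FrobSch.frob X p)).obj (Coh.structureModule X)) from
    (QCohLib.toAbF X).map (ClSub.unitToPush (FrobSch.frob X p))

theorem pmap_app (X : Scheme.{u}) [FrobSch.IsCharP X p] (U : (Opens X)ᵒᵖ) (m) :
    (pmap p X).hom.app U m = ((show Γ(X, U.unop) from m) ^ p : Γ(X, U.unop)) := rfl

theorem smulAb_pmap (X : Scheme.{u}) [FrobSch.IsCharP X p] (r : Coh.Γtop X) :
    Coh.smulAb (Coh.structureModule X) r ≫ pmap p X =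
      pmap p X ≫ Coh.smulAb (Coh.structureModule X) ((show Γ(X, ⊤) from r) ^ p : Γ(X, ⊤)) := by
  ext U m
  change (pmap p X).hom.app U ((Coh.smulAb (Coh.structureModule X) r).hom.app U m) =
    (Coh.smulAb (Coh.structureModule X) _).hom.app U ((pmap p X).hom.app U m)
  rw [pmap_app, pmap_app, Coh.smulAb_app, Coh.smulAb_app]
  refine (mul_pow (show Γ(X, U.unop) from Coh.resTop X U r) (show Γ(X, U.unop) from m) p).trans ?_
  exact congrArg (· * _) (map_pow (Coh.resTop X U) r p).symm

variable {X : Scheme.{u}} {k : Type u} [Field k] [X.Over (Spec (CommRingCat.of k))]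

/-- A semilinear injective endomorphism of a finite dimensional space over a perfect field is surjective. -/
theorem surjective_of_semilinear {V : Type u} [AddCommGroup V] [Module k V] [Module.Finite k V]
    (hk : ∀ c : k, ∃ d : k, d ^ p = c) (ψ : V →+ V) (hψ : ∀ (c : k) (x : V), ψ (c • x) = c ^ p • ψ x)
    (hinj : Function.Injective ψ) : Function.Surjective ψ := by
  let b := Module.finBasis k V
  have hli : LinearIndependent k (ψ ∘ b) := by
    rw [Fintype.linearIndependent_iff]
    intro g hg i
    choose d hd using fun j => hk (g j)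
    have h0 : ψ (∑ j, d j • b j) = 0 := by
      rw [map_sum, ← hg]
      exact Finset.sum_congr rfl fun j _ => by rw [hψ, hd]; rfl
    rw [← hd i, Fintype.linearIndependent_iff.mp b.linearIndependent d (hinj (h0.trans (map_zero ψ).symm)) i,
      zero_pow (Fact.out : p.Prime).ne_zero]
  intro v
  have hv : v ∈ Submodule.span k (Set.range (ψ ∘ b)) := by
    rw [hli.span_eq_top_of_card_eq_finrank' (Fintype.card_fin _)]
    trivial
  obtain ⟨g, rfl⟩ := (Submodule.mem_span_range_iff_exists_fun _).mp hv
  choose d hd using fun j => hk (g j)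
  exact ⟨∑ j, d j • b j, by rw [map_sum]; exact Finset.sum_congr rfl fun j _ => by rw [hψ, hd]; rfl⟩

/-- Vanishing for the cokernel of Frobenius from injectivity of Frobenius on cohomology. -/
theorem subsingleton_coker_of_injective [IsProper (X ↘ Spec (CommRingCat.of k))] [IsReduced X]
    [FrobSch.IsCharP X p] (hk : ∀ c : k, ∃ d : k, d ^ p = c)
    (h : ∀ i : ℕ, Function.Injective (CurvLib.hMap (k := k) (ClSub.unitToPush (FrobSch.frob X p)) i)) (i : ℕ) :
    Subsingleton (Coh.HH X (cokernel (ClSub.unitToPush (FrobSch.frob X p))) i) := by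
  haveI := CurvLib.isNoetherian k (X := X)
  haveI := mono_unit_frob p X
  let η := ClSub.unitToPush (FrobSch.frob X p)
  let S : ShortComplex X.Modules := ShortComplex.mk η (cokernel.π η) (cokernel.condition η)
  have hS : S.ShortExact :=
    { exact := ShortComplex.exact_of_g_is_cokernel _ (cokernelIsCokernel η)
      mono_f := inferInstanceAs (Mono η)
      epi_g := inferInstanceAs (Epi (cokernel.π η)) }
  have hsurj : Function.Surjective (CurvLib.hMap (k := k) η i) := by
    haveI : Module.Finite k (Coh.HH X (Coh.structureModule X) i) :=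
      CurvLib.finite_HH (DevissLib.isCoh_structureModule X) i
    let ψ : Coh.HH X (Coh.structureModule X) i →+ Coh.HH X (Coh.structureModule X) i :=
      { toFun := fun x => Sheaf.H.map (pmap p X) i x
        map_zero' := map_zero _
        map_add' := map_add _ }
    refine surjective_of_semilinear p hk ψ (fun c x => ?_) (h i)
    change Sheaf.H.map (pmap p X) i (Sheaf.H.map (Coh.smulAb _ (Coh.toGlobal (X ↘ Spec (CommRingCat.of k)) c)) i x) =
      Sheaf.H.map (Coh.smulAb _ (Coh.toGlobal (X ↘ Spec (CommRingCat.of k)) (c ^ p))) i (Sheaf.H.map (pmap p X) i x)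
    rw [map_pow, ← Sheaf.H.map_comp_apply, ← Sheaf.H.map_comp_apply, smulAb_pmap]
    rfl
  have hg : ∀ z, CurvLib.hDel (k := k) hS i z = 0 := fun z => by
    have hz : CurvLib.hDel (k := k) hS i z ∈ LinearMap.ker (CurvLib.hMap (k := k) S.f (i + 1)) := by
      rw [← CurvLib.exact₁ hS i]; exact LinearMap.mem_range_self _ _
    exact h (i + 1) ((LinearMap.mem_ker.mp hz).trans (map_zero _).symm)
  refine ⟨fun a b => ?_⟩
  have hzero : ∀ z : Coh.HH X S.X₃ i, z = 0 := fun z => by
    have hz : z ∈ LinearMap.range (CurvLib.hMap (k := k) S.g i) := by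
      rw [CurvLib.exact₃ hS i, LinearMap.mem_ker]; exact hg z
    obtain ⟨y, rfl⟩ := hz
    have hy : y ∈ LinearMap.ker (CurvLib.hMap (k := k) S.g i) := by
      rw [← CurvLib.exact₂ hS i]; exact hsurj y
    exact hy
  exact (hzero a).trans (hzero b).symm

/-- Injectivity of the Frobenius of the base from a split cover. -/
theorem injective_of_cover [FrobSch.IsCharP X p] {Y : Scheme.{u}} [FrobSch.IsCharP Y p] [IsReduced Y] (f : Y ⟶ X)
    [IsAffineHom f] (τ : dirO f ⟶ Coh.structureModule X) (hτ : ClSub.unitToPush f ≫ τ = 𝟙 _)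
    (hY : ∀ i : ℕ, Subsingleton (Coh.HH Y (cokernel (ClSub.unitToPush (FrobSch.frob Y p))) i)) (i : ℕ) :
    Function.Injective (CurvLib.hMap (k := k) (ClSub.unitToPush (FrobSch.frob X p)) i) := by
  haveI := mono_unit_frob p Y
  haveI := QCohLib.isQCoh_unit (X := Y)
  haveI := isQCoh_push_frob p Y
  let ηY := ClSub.unitToPush (FrobSch.frob Y p)
  haveI : Coh.IsQCoh (cokernel ηY) := QCohLib.isQCoh_cokernel ηY
  let S : ShortComplex Y.Modules := ShortComplex.mk ηY (cokernel.π ηY) (cokernel.condition ηY)
  have hS : S.ShortExact :=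
    { exact := ShortComplex.exact_of_g_is_cokernel _ (cokernelIsCokernel ηY)
      mono_f := inferInstanceAs (Mono ηY)
      epi_g := inferInstanceAs (Epi (cokernel.π ηY)) }
  let T := (S.map (QCohLib.toAbF Y)).map (QCohLib.pf f.base)
  have hT : T.ShortExact := QCohLib.pf_shortExact QCohLib.isBasis_affSet (QCohLib.toAbF_shortExact hS)
    (QCohLib.acyclicAbove_of_isAffineHom f (Coh.structureModule Y))
  have hTinj : ∀ j : ℕ, Function.Injective (Sheaf.H.map T.f j) := by
    intro j
    refine (injective_iff_map_eq_zero _).mpr fun y hy => ?_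
    rcases j with _ | j
    · haveI : Mono ((Scheme.Modules.pushforward f).map ηY) := inferInstance
      change Sheaf.H.map ((QCohLib.toAbF X).map ((Scheme.Modules.pushforward f).map ηY)) 0 y = 0 at hy
      have h := congrArg (DegPullLib.e0 _) hy
      rw [← CurvLib.hMap_apply (k := k), RRVanLib.e0_map, map_zero] at h
      exact (DegPullLib.e0 (dirO f)).injective ((QCohLib.app_injective_of_mono ((Scheme.Modules.pushforward f).map ηY) ⊤
        (h.trans (map_zero _).symm)).trans (map_zero _).symm)
    · obtain ⟨z, rfl⟩ := AtlasCoh.hExact₁ hT j y hy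
      have hs : Subsingleton (Sheaf.H T.X₃ j) := by
        haveI := hY j
        obtain ⟨e⟩ := QCohLib.nonempty_HH_push f (cokernel ηY) j
        exact e.symm.toEquiv.subsingleton
      rw [hs.elim z 0, map_zero]
  let g := (QCohLib.toAbF X).map (ClSub.unitToPush f)
  have sq : g ≫ T.f = (QCohLib.toAbF X).map (ClSub.unitToPush (FrobSch.frob X p)) ≫
      ((QCohLib.toAbF X).map ((Scheme.Modules.pushforward (FrobSch.frob X p)).map (ClSub.unitToPush f)) :
        (QCohLib.toAbF X).obj ((Scheme.Modules.pushforward (FrobSch.frob X p)).obj (Coh.structureModule X)) ⟶ T.X₂) := by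
    ext U r
    change (show Γ(Y, f ⁻¹ᵁ U.unop) from f.app U.unop r) ^ p = f.app U.unop ((show Γ(X, U.unop) from r) ^ p)
    exact (map_pow (f.app U.unop).hom _ p).symm
  refine (injective_iff_map_eq_zero _).mpr fun x hx => ?_
  have hx' : Sheaf.H.map (g ≫ T.f) i x = 0 := by
    rw [sq]
    refine (Sheaf.H.map_comp_apply ..).trans ?_
    exact (congrArg _ hx).trans (map_zero _)
  rw [Sheaf.H.map_comp_apply] at hx'
  have hgx : CurvLib.hMap (k := k) (ClSub.unitToPush f) i x = 0 :=
    hTinj i (hx'.trans (map_zero _).symm)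
  have := congrArg (CurvLib.hMap (k := k) τ i) hgx
  rw [map_zero, ← CurvLib.hMap_comp, hτ, CurvLib.hMap_apply, CategoryTheory.Functor.map_id, Sheaf.H.map_id_apply] at this
  exact this

end EtTwoLib

end
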